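import Cfsg.Agent.Lib.HeUnique.Pattern
import Cfsg.Agent.Lib.HeUnique.C0.Spec
import Mathlib.GroupTheory.Nilpotent

/-!
The subgroups of order sixty-four are not fused and their normalisers control the fusion of the
transvection in them.
-/

set_option autoImplicit false
set_option linter.unusedSectionVars false
set_option linter.style.haveILetI false
set_option linter.unusedSimpArgs false
set_option maxRecDepth 8000

namespace CfsgLib.HeUnique

open Subgroup

attribute [local irreducible] el eEl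

universe u

variable {G : Type u} [Group G]

/-- Conjugate of a subgroup. -/
abbrev cj (g : G) (H : Subgroup G) : Subgroup G := H.map (MulAut.conj g : G ≃* G).toMonoidHom

theorem mem_cj {g x : G} {H : Subgroup G} : x ∈ cj g H ↔ g⁻¹ * x * g ∈ H := by
  rw [Subgroup.mem_map_equiv]
  simp [MulAut.conj_symm_apply]

theorem conj_mem_cj {g x : G} {H : Subgroup G} (h : x ∈ H) : g * x * g⁻¹ ∈ cj g H :=
  mem_cj.2 (by simpa [mul_assoc] using h)

theorem cj_cj (a b : G) (H : Subgroup G) : cj a (cj b H) = cj (a * b) H := by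
  ext x
  simp only [mem_cj, mul_inv_rev, mul_assoc]

theorem cj_one (H : Subgroup G) : cj (1 : G) H = H := by
  ext x
  simp [mem_cj]

theorem cj_eq_self {g : G} {H : Subgroup G} : cj g H = H ↔ g ∈ normalizer (H : Set G) := by
  rw [mem_normalizer_iff'']
  constructor
  · intro h x
    constructor
    · intro hx
      rw [← h] at hx
      exact mem_cj.1 hx
    · intro hx
      rw [← h]
      exact mem_cj.2 hx
  · intro h
    ext x
    rw [mem_cj]
    exact (h x).symm

theorem card_cj (g : G) (H : Subgroup G) : Nat.card (cj g H) = Nat.card H :=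
  (Nat.card_congr (H.equivMapOfInjective _ (MulAut.conj g).injective).toEquiv).symm

namespace CentEmb

variable (e : CentEmb G)

/-- The involution. -/
noncomputable abbrev t : G := e.θ z0

theorem mem_range {g : G} : g ∈ e.θ.range ↔ g * e.t = e.t * g := by
  rw [e.range_eq, mem_centralizer_singleton_iff]

theorem exists_of_comm {g : G} (h : g * e.t = e.t * g) : ∃ c, e.θ c = g := e.mem_range.2 h

theorem comm (c : C0) : e.θ c * e.t = e.t * e.θ c := e.mem_range.1 ⟨c, rfl⟩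

variable {e} (hC : CentFacts)
include hC

theorem t_sq : e.t * e.t = 1 := by rw [t, ← map_mul, hC.z0_sq, map_one]

theorem z_mem_E (i : Fin 2) : e.t ∈ e.E i :=
  ⟨z0, (hC.mem_Eg i z0).2 ⟨zIdx i, by revert i; decide, hC.eEl_z i⟩, rfl⟩

theorem comm_E {i : Fin 2} {x y : G} (hx : x ∈ e.E i) (hy : y ∈ e.E i) : x * y = y * x := by
  obtain ⟨a, ha, rfl⟩ := hx
  obtain ⟨b, hb, rfl⟩ := hy
  rw [← map_mul, ← map_mul]
  have h : a ∈ centralizer (Eg i : Set C0) := (hC.cent_Eg i).symm ▸ ha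
  exact congrArg e.θ (mem_centralizer_iff.1 h b hb).symm

theorem sq_E {i : Fin 2} {x : G} (hx : x ∈ e.E i) : x * x = 1 := by
  obtain ⟨a, ha, rfl⟩ := hx
  obtain ⟨v, hv, rfl⟩ := (hC.mem_Eg i a).1 ha
  rw [← map_mul, hC.eEl_mul i v hv v hv, Nat.xor_self, hC.eEl_zero, map_one]

theorem card_E [Finite G] (i : Fin 2) : Nat.card (e.E i) = 64 := by
  have : Nat.card (Eg i) = 64 := by
    let f : Fin 64 → Eg i := fun v => ⟨eEl i v, (hC.mem_Eg i _).2 ⟨v, v.2, rfl⟩⟩
    rw [← Nat.card_eq_of_bijective f ⟨fun a b h => by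
      simp only [f, Subtype.mk.injEq] at h
      exact Fin.ext (hC.eEl_inj i _ a.2 _ b.2 h), fun x => by
        obtain ⟨v, hv, h⟩ := (hC.mem_Eg i _).1 x.2
        exact ⟨⟨v, hv⟩, Subtype.ext h⟩⟩, Nat.card_eq_fintype_card, Fintype.card_fin]
  rw [CentEmb.E, ← Nat.card_congr ((Eg i).equivMapOfInjective _ e.injective).toEquiv, this]

theorem E_le_range (i : Fin 2) : e.E i ≤ e.θ.range := map_le_range _ _

theorem E_ne : e.E 0 ≠ e.E 1 := fun h => hC.Eg_ne (map_injective e.injective h)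

theorem S_le (i : Fin 2) : Sg.map e.θ ≤ normalizer (e.E i : Set G) :=
  (map_mono (hC.Sg_le i)).trans (le_normalizer_map _)

theorem isPGroup_S : IsPGroup 2 (Sg.map e.θ : Subgroup G) :=
  (IsPGroup.of_card (n := 10) hC.card_Sg).map e.θ

theorem norm_S [Finite G] {g : G} (hg : g ∈ normalizer (Sg.map e.θ : Set G)) : g ∈ Sg.map e.θ := by
  have hz : z0 ∈ Sg := hC.Eg_le 0 ((hC.mem_Eg 0 z0).2 ⟨4, by omega, hC.eEl_z 0⟩)
  have h1 : g * e.t * g⁻¹ ∈ Sg.map e.θ := (mem_normalizer_iff.1 hg _).1 (mem_map_of_mem _ hz)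
  obtain ⟨x, hx, hxe⟩ := h1
  have hxc : x = 1 ∨ x = z0 := hC.center_Sg x hx fun y hy => e.injective (by
    have hy' : g⁻¹ * e.θ y * g ∈ Sg.map e.θ := (mem_normalizer_iff''.1 hg _).1 (mem_map_of_mem _ hy)
    obtain ⟨w, -, hw⟩ := hy'
    have hc := e.comm w
    rw [map_mul, map_mul, hxe, show e.θ y = g * e.θ w * g⁻¹ by rw [hw]; group]
    calc g * e.t * g⁻¹ * (g * e.θ w * g⁻¹) = g * (e.t * e.θ w) * g⁻¹ := by group
      _ = g * (e.θ w * e.t) * g⁻¹ := by rw [hc]
      _ = _ := by group)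
  have hgt : g * e.t = e.t * g := by
    rcases hxc with rfl | rfl
    · rw [map_one, eq_comm, conj_eq_one_iff, ← map_one e.θ] at hxe
      exact absurd (e.injective hxe) hC.z0_ne
    · exact mul_inv_eq_iff_eq_mul.1 hxe.symm
  obtain ⟨c, rfl⟩ := e.exists_of_comm hgt
  refine mem_map_of_mem _ (hC.norm_Sg (mem_normalizer_iff.2 fun y => ?_))
  rw [← mem_map_iff_mem e.injective (K := Sg), ← mem_map_iff_mem e.injective (K := Sg) (x := c * y * c⁻¹),
    map_mul, map_mul, map_inv]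
  exact mem_normalizer_iff.1 hg (e.θ y)

/-- The image of the Sylow subgroup is a Sylow subgroup of the whole group. -/
theorem exists_sylow [Finite G] : ∃ P : Sylow 2 G, (P : Subgroup G) = Sg.map e.θ := by
  haveI : Fact (Nat.Prime 2) := ⟨Nat.prime_two⟩
  obtain ⟨P, hP⟩ := (isPGroup_S (e := e) hC).exists_le_sylow
  refine ⟨P, le_antisymm ?_ hP⟩
  have hnc : NormalizerCondition P := by
    haveI := P.isPGroup'.isNilpotent
    exact Group.normalizerCondition_of_isNilpotent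
  by_contra hne
  have hlt : (Sg.map e.θ).subgroupOf P < ⊤ := lt_top_iff_ne_top.2 fun h => hne (subgroupOf_eq_top.1 h)
  obtain ⟨x, hxn, hx⟩ := SetLike.exists_of_lt (hnc _ hlt)
  refine hx (mem_subgroupOf.2 (norm_S hC (mem_normalizer_iff.2 fun y => ?_)))
  constructor
  · intro hy
    exact mem_subgroupOf.1 ((mem_normalizer_iff.1 hxn ⟨y, hP hy⟩).1 hy)
  · intro hy
    have hyP : y ∈ (P : Subgroup G) := by
      have h := mul_mem (mul_mem (inv_mem x.2) (hP hy)) x.2
      convert h using 1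
      group
    exact mem_subgroupOf.1 ((mem_normalizer_iff.1 hxn ⟨y, hyP⟩).2 (mem_subgroupOf.2 hy))

/-- The two subgroups of order sixty-four are not fused. -/
theorem not_fused [Finite G] (g : G) : cj g (e.E 0) ≠ e.E 1 := by
  intro h
  haveI : Fact (Nat.Prime 2) := ⟨Nat.prime_two⟩
  obtain ⟨P, hP⟩ := exists_sylow (e := e) hC
  have h1 : (P : Subgroup G) ≤ normalizer (e.E 1 : Set G) := hP.le.trans (S_le hC 1)
  have h2 : ((g • P : Sylow 2 G) : Subgroup G) ≤ normalizer (e.E 1 : Set G) := by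
    intro x hx
    rw [Sylow.coe_subgroup_smul, Subgroup.mem_pointwise_smul_iff_inv_smul_mem] at hx
    rw [← h, ← cj_eq_self, cj_cj]
    have h0 := cj_eq_self.2 (S_le hC 0 (hP ▸ hx : g⁻¹ * x * g ∈ Sg.map e.θ))
    calc cj (x * g) (e.E 0) = cj (g * (g⁻¹ * x * g)) (e.E 0) := by rw [show g * (g⁻¹ * x * g) = x * g by group]
      _ = cj g (e.E 0) := by rw [← cj_cj, h0]
  obtain ⟨n, hn⟩ := MulAction.exists_smul_eq (normalizer (e.E 1 : Set G)) ((g • P).subtype h2) (P.subtype h1)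
  rw [Sylow.smul_subtype] at hn
  have hn2 := Sylow.subtype_injective hn
  rw [Subgroup.smul_def, smul_smul, Sylow.smul_eq_iff_mem_normalizer] at hn2
  have h3 := norm_S (e := e) hC (g := (n : G) * g) (by rw [← hP]; exact hn2)
  have h4 := cj_eq_self.2 (S_le hC 0 h3)
  rw [← cj_cj, h, cj_eq_self.2 n.2] at h4
  exact E_ne hC h4.symm

theorem cj_E_ne [Finite G] (g : G) {i j : Fin 2} (hij : i ≠ j) : cj g (e.E i) ≠ e.E j := by
  intro h
  rcases (show (i = 0 ∧ j = 1) ∨ (i = 1 ∧ j = 0) by omega) with ⟨rfl, rfl⟩ | ⟨rfl, rfl⟩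
  · exact not_fused hC g h
  · refine not_fused (e := e) hC g⁻¹ ?_
    rw [← h, cj_cj, inv_mul_cancel, cj_one]

theorem cj_comm {i : Fin 2} (g : G) : ∀ a ∈ cj g (e.E i), ∀ b ∈ cj g (e.E i), a * b = b * a := by
  rintro _ ⟨a, ha, rfl⟩ _ ⟨b, hb, rfl⟩
  exact (map_mul _ a b).symm.trans ((congrArg _ (comm_E hC ha hb)).trans (map_mul _ b a))

theorem cj_sq {i : Fin 2} (g : G) : ∀ a ∈ cj g (e.E i), a * a = 1 := by
  rintro _ ⟨a, ha, rfl⟩
  exact (map_mul _ a a).symm.trans ((congrArg _ (sq_E hC ha)).trans (map_one _))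

/-- An elementary abelian subgroup of order sixty-four in a subgroup of the centraliser containing the
Sylow subgroup is conjugate there to one of the two. -/
theorem conj_into {U : Subgroup C0} (hU : Sg ≤ U) (F : Subgroup G) (hF : F ≤ U.map e.θ)
    (hcard : Nat.card F = 64) (hcomm : ∀ x ∈ F, ∀ y ∈ F, x * y = y * x) (hsq : ∀ x ∈ F, x * x = 1) :
    ∃ c ∈ U, ∃ i, cj (e.θ c) F = e.E i := by
  haveI : Fact (Nat.Prime 2) := ⟨Nat.prime_two⟩
  haveI : Finite C0 := Nat.finite_of_card_ne_zero (by rw [hC.card_C0]; norm_num)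
  let F₀ := F.comap e.θ
  have hmap : F₀.map e.θ = F := map_comap_eq_self (hF.trans (map_le_range _ _))
  have hle : F₀ ≤ U := fun x hx => (mem_map_iff_mem e.injective).1 (hF hx)
  have hcard0 : Nat.card F₀ = 64 := by
    rw [← hcard, ← hmap, ← Nat.card_congr (F₀.equivMapOfInjective _ e.injective).toEquiv]
  have hp : IsPGroup 2 (F₀.subgroupOf U) :=
    IsPGroup.of_card (n := 6) (by rw [Nat.card_congr (subgroupOfEquivOfLe hle).toEquiv, hcard0]; norm_num)
  obtain ⟨R, hR⟩ := hp.exists_le_sylow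
  let P0 : Sylow 2 C0 := Sylow.ofCard Sg (by
    rw [hC.card_Sg, hC.card_C0, show (21504 : ℕ) = 2 ^ 10 * 21 by norm_num,
      Nat.factorization_mul (by norm_num) (by norm_num), Nat.Prime.factorization_pow Nat.prime_two]
    simp [Nat.factorization_eq_zero_of_not_dvd])
  obtain ⟨c, hc⟩ := MulAction.exists_smul_eq U R (P0.subtype hU)
  refine ⟨c, c.2, ?_⟩
  have hsub : cj (c : C0) F₀ ≤ Sg := by
    rintro _ ⟨x, hx, rfl⟩
    have h1 : (⟨x, hle hx⟩ : U) ∈ (R : Subgroup U) := hR hx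
    have h2 : c * ⟨x, hle hx⟩ * c⁻¹ ∈ ((c • R : Sylow 2 U) : Subgroup U) := by
      rw [Sylow.coe_subgroup_smul, Subgroup.mem_pointwise_smul_iff_inv_smul_mem]
      simpa [MulAut.smul_def, mul_assoc] using h1
    rw [hc] at h2
    exact h2
  have he := hC.classify (cj (c : C0) F₀) hsub ⟨⟨⟨fun a b => ?_⟩⟩, ?_⟩
    ((card_cj (c : C0) F₀).trans hcard0)
  · have key : cj (e.θ c) F = (cj (c : C0) F₀).map e.θ := by
      rw [← hmap, cj, cj, map_map, map_map]
      congr 1
      ext x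
      simp
    rcases he with he | he
    · exact ⟨0, by rw [key, he]; rfl⟩
    · exact ⟨1, by rw [key, he]; rfl⟩
  · obtain ⟨_, x, hx, rfl⟩ := a
    obtain ⟨_, y, hy, rfl⟩ := b
    refine Subtype.ext ?_
    show MulAut.conj (c : C0) x * MulAut.conj (c : C0) y = MulAut.conj (c : C0) y * MulAut.conj (c : C0) x
    rw [← map_mul, ← map_mul]
    exact congrArg _ (e.injective (by rw [map_mul, map_mul]; exact hcomm _ hx _ hy))
  · rintro _ ⟨x, hx, rfl⟩
    show (MulAut.conj (c : C0) x) ^ 2 = 1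
    rw [← map_pow, pow_two, show x * x = 1 from e.injective (by rw [map_mul, map_one]; exact hsq _ hx),
      map_one]

/-- The normaliser of a subgroup of order sixty-four controls the fusion of the involution in it. -/
theorem exists_norm [Finite G] {i : Fin 2} {x : G} (hx : x ∈ e.E i) (h : IsConj x e.t) :
    ∃ n ∈ normalizer (e.E i : Set G), n * x * n⁻¹ = e.t := by
  obtain ⟨g, hg⟩ := isConj_iff.1 h
  have hle : cj g (e.E i) ≤ (⊤ : Subgroup C0).map e.θ := by
    rintro _ ⟨y, hy, rfl⟩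
    rw [← MonoidHom.range_eq_map, e.mem_range]
    show g * y * g⁻¹ * e.t = e.t * (g * y * g⁻¹)
    rw [← hg]
    calc g * y * g⁻¹ * (g * x * g⁻¹) = g * (y * x) * g⁻¹ := by group
      _ = g * (x * y) * g⁻¹ := by rw [comm_E hC hy hx]
      _ = _ := by group
  obtain ⟨c, -, j, hc⟩ := conj_into (e := e) hC le_top (cj g (e.E i)) hle
    (by rw [card_cj, card_E hC]) (cj_comm hC _) (cj_sq hC _)
  rw [cj_cj] at hc
  obtain rfl : i = j := by
    by_contra hij
    exact cj_E_ne hC _ hij hc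
  refine ⟨e.θ c * g, cj_eq_self.1 hc, ?_⟩
  calc e.θ c * g * x * (e.θ c * g)⁻¹ = e.θ c * (g * x * g⁻¹) * (e.θ c)⁻¹ := by group
      _ = e.t := by rw [hg, e.comm c]; group

/-- The normalisers of both subgroups control the fusion in their intersection. -/
theorem exists_norm_both [Finite G] {x : G} (h0 : x ∈ e.E 0) (h1 : x ∈ e.E 1) (h : IsConj x e.t) :
    ∃ m ∈ normalizer (e.E 0 : Set G) ⊓ normalizer (e.E 1 : Set G), m * x * m⁻¹ = e.t := by
  obtain ⟨n, hn, hnx⟩ := exists_norm hC h0 h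
  have hle : cj n (e.E 1) ≤ (normalizer (Eg 0 : Set C0)).map e.θ := by
    rintro _ ⟨y, hy, rfl⟩
    have hc : n * y * n⁻¹ * e.t = e.t * (n * y * n⁻¹) := by
      rw [← hnx]
      calc n * y * n⁻¹ * (n * x * n⁻¹) = n * (y * x) * n⁻¹ := by group
        _ = n * (x * y) * n⁻¹ := by rw [comm_E hC hy h1]
        _ = _ := by group
    obtain ⟨c, hc'⟩ := e.exists_of_comm hc
    refine ⟨c, mem_normalizer_iff.2 fun w => ?_, hc'⟩
    have hyN : y ∈ normalizer (e.E 0 : Set G) := S_le hC 0 (map_mono (hC.Eg_le 1) hy)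
    rw [← mem_map_iff_mem e.injective (K := Eg 0), ← mem_map_iff_mem e.injective (K := Eg 0) (x := c * w * c⁻¹),
      map_mul, map_mul, map_inv, hc']
    exact mem_normalizer_iff.1 (mul_mem (mul_mem hn hyN) (inv_mem hn)) (e.θ w)
  obtain ⟨c, hcN, j, hc⟩ := conj_into (e := e) hC (hC.Sg_le 0) (cj n (e.E 1)) hle
    (by rw [card_cj, card_E hC]) (cj_comm hC _) (cj_sq hC _)
  rw [cj_cj] at hc
  obtain rfl : j = 1 := by
    by_contra hj
    exact cj_E_ne hC _ (Ne.symm hj) hc
  have hcn : e.θ c ∈ normalizer (e.E 0 : Set G) := le_normalizer_map _ (mem_map_of_mem _ hcN)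
  refine ⟨e.θ c * n, ⟨mul_mem hcn hn, cj_eq_self.1 hc⟩, ?_⟩
  calc e.θ c * n * x * (e.θ c * n)⁻¹ = e.θ c * (n * x * n⁻¹) * (e.θ c)⁻¹ := by group
      _ = e.t := by rw [hnx, e.comm c]; group

end CentEmb

end CfsgLib.HeUnique
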