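import Cfsg.Agent.Lib.HeUnique.C0.Defs

/-!
The possible fusion patterns: two counting invariants leave six of them and the isolated one.
-/

set_option autoImplicit false

namespace CfsgLib.HeUnique

/-- The number of fused elements. -/
def sizeO (r : ℕ) (i : Fin 2) : ℕ := ((List.range 64).filter (inO r i)).length

/-- The number of lines through a fused element with two further fused elements, doubled. -/
def linesO (r : ℕ) (i : Fin 2) (v : ℕ) : ℕ :=
  ((List.range 64).filter fun y => inO r i y && inO r i (v ^^^ y)).length

/-- The number of fused elements in the intersection. -/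
def sizeI (r : ℕ) : ℕ := ((List.range 64).filter fun v => inO r 0 v && (v &&& 9 == 0)).length

/-- The conditions on a pattern. -/
def goodPat (r : ℕ) : Bool :=
  !r.testBit 0 && r.testBit 2 &&
    (List.range 64).all (fun v => !inO r 0 v || linesO r 0 v == linesO r 0 4) &&
    (List.range 64).all (fun v => !inO r 1 v || linesO r 1 v == linesO r 1 2) &&
    (sizeO r 0 * 3072) % sizeI r == 0

theorem goodPat_cases_range (a : ℕ) (ha : a < 2) :
    ((List.range 256).all fun k =>
      !goodPat (256 * a + k) || [rP, rQ, rL, rA, rB, rH, 4].contains (256 * a + k)) = true := by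
  interval_cases a <;> decide +kernel

theorem goodPat_cases {r : ℕ} (hr : r < 512) (h : goodPat r = true) :
    r ∈ [rP, rQ, rL, rA, rB, rH, 4] := by
  have h1 := List.all_eq_true.1 (goodPat_cases_range (r / 256) (by omega)) (r % 256)
    (List.mem_range.2 (Nat.mod_lt _ (by norm_num)))
  rw [Nat.div_add_mod, h, Bool.not_true, Bool.false_or, List.contains_iff_mem] at h1
  exact h1

end CfsgLib.HeUnique
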