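import Cfsg.Agent.Lib.HeUnique.C0.Defs

/-!
Reading equalities and memberships in the centraliser of the transvection off codes.
-/

set_option autoImplicit false

namespace CfsgLib.HeUnique

open Matrix CfsgLib.Sporadic

theorem decF2_zC : decF2 5 zC = Matrix.transvection 0 1 (1 : ZMod 2) := by decide +kernel

/-- A code with a code of the inverse and commuting with the transvection codes an element. -/
theorem exists_rep {c d : ℕ}
    (h : (canonF2 5 c && mulF2 5 c d == oneC && mulF2 5 c zC == mulF2 5 zC c) = true) :
    ∃ x : C0, Rep c x := by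
  simp only [Bool.and_eq_true, beq_iff_eq] at h
  obtain ⟨⟨hc, hd⟩, hz⟩ := h
  have hone : decF2 5 oneC = 1 := by
    rw [show oneC = oneF2 5 by decide +kernel, decF2_oneF2]
  have h1 := congrArg Matrix.det (congrArg (decF2 5) hd)
  rw [decF2_mulF2, hone, Matrix.det_one, Matrix.det_mul] at h1
  have hdet : (decF2 5 c).det = 1 := by
    generalize (decF2 5 c).det = a at h1
    generalize (decF2 5 d).det = b at h1
    revert h1
    revert a b
    decide
  refine ⟨⟨⟨decF2 5 c, hdet⟩, Subgroup.mem_centralizer_singleton_iff.2 (Subtype.ext ?_)⟩, hc, rfl⟩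
  have h2 := congrArg (decF2 5) hz
  rw [decF2_mulF2, decF2_mulF2, decF2_zC] at h2
  exact h2

/-- The elements with coordinates exist. -/
theorem rep_eEl (i : Fin 2) {v : ℕ} (hv : v < 64) : Rep (bitsCode (posE i) v) (eEl i v) := by
  have h : ((List.range 64).all fun v => (List.finRange 2).all fun i =>
      canonF2 5 (bitsCode (posE i) v) && mulF2 5 (bitsCode (posE i) v) (bitsCode (posE i) v) == oneC &&
        mulF2 5 (bitsCode (posE i) v) zC == mulF2 5 zC (bitsCode (posE i) v)) = true := by
    decide +kernel
  simp only [List.all_eq_true, List.mem_range, List.mem_finRange, true_imp_iff] at h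
  exact rep_el (exists_rep (h v hv i))

theorem eEl_code {i j : Fin 2} {v w : ℕ} (hv : v < 64) (hw : w < 64) (h : eEl i v = eEl j w) :
    bitsCode (posE i) v = bitsCode (posE j) w := by
  have h1 := rep_eEl i hv
  have h2 := rep_eEl j hw
  rw [h] at h1
  exact decF2_injOn h1.1 h2.1 (h1.2.symm.trans h2.2)

/-- The coordinates in the first subgroup of the intersection with the second. -/
theorem exists_second {v : ℕ} (hv : v < 64) :
    v &&& 9 = 0 ↔ ∃ w < 64, eEl 0 v = eEl 1 w := by
  have h : ((List.range 64).all fun v => (v &&& 9 == 0) ==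
      (List.range 64).any fun w => bitsCode (posE 0) v == bitsCode (posE 1) w) = true := by
    decide +kernel
  simp only [List.all_eq_true, List.mem_range, beq_iff_eq] at h
  have hv' := h v hv
  constructor
  · intro h9
    rw [h9] at hv'
    simp only [beq_self_eq_true] at hv'
    obtain ⟨w, hw, he⟩ := List.any_eq_true.1 hv'.symm
    exact ⟨w, List.mem_range.1 hw, by rw [eEl, eEl, beq_iff_eq.1 he]⟩
  · rintro ⟨w, hw, he⟩
    have h2 : ((List.range 64).any fun w => bitsCode (posE 0) v == bitsCode (posE 1) w) = true :=
      List.any_eq_true.2 ⟨w, List.mem_range.2 hw, beq_iff_eq.2 (eEl_code hv hw he)⟩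
    rw [h2, beq_iff_eq] at hv'
    exact hv'

theorem labE_lt (i : Fin 2) {v : ℕ} (hv : v < 64) : labE i v < 9 := by
  have h : ((List.range 64).all fun v => (List.finRange 2).all fun i => Nat.blt (labE i v) 9) = true := by
    decide +kernel
  simp only [List.all_eq_true, List.mem_range, List.mem_finRange, true_imp_iff, Nat.blt_eq] at h
  exact h v hv i

theorem zIdx_lt (i : Fin 2) : zIdx i < 64 := by
  revert i; decide

end CfsgLib.HeUnique
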