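import Cfsg.Agent.Lib.HeUnique.Local.Basic
import Cfsg.Agent.Lib.HeUnique.Local.Code
import Cfsg.Agent.Lib.HeUnique.Local.CasesCheck

/-!
The possible fusion patterns of an involution with the centraliser of the transvection.
-/

set_option autoImplicit false
set_option linter.unusedSectionVars false
set_option maxRecDepth 8000

namespace CfsgLib.HeUnique

open Subgroup

universe u

attribute [local irreducible] el eEl

/-- Every predicate on the small indices is a bit mask. -/
theorem exists_mask (P : ℕ → Prop) : ∀ n, ∃ r < 2 ^ n, ∀ k < n, (r.testBit k = true ↔ P k) := by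
  intro n
  induction n with
  | zero => exact ⟨0, by norm_num, fun k hk => absurd hk (by omega)⟩
  | succ n ih =>
    obtain ⟨r, hr, h⟩ := ih
    by_cases hP : P n
    · refine ⟨2 ^ n + r, by rw [pow_succ]; omega, fun k hk => ?_⟩
      rcases Nat.lt_or_eq_of_le (Nat.lt_succ_iff.1 hk) with hlt | rfl
      · rw [Nat.testBit_two_pow_add_gt hlt, h k hlt]
      · rw [Nat.testBit_two_pow_add_eq, Nat.testBit_lt_two_pow hr]
        simp [hP]
    · refine ⟨r, by rw [pow_succ]; omega, fun k hk => ?_⟩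
      rcases Nat.lt_or_eq_of_le (Nat.lt_succ_iff.1 hk) with hlt | rfl
      · exact h k hlt
      · rw [Nat.testBit_lt_two_pow hr]
        simp [hP]

namespace CentEmb

variable {G : Type u} [Group G] {e : CentEmb G} (hC : CentFacts)
include hC

theorem isConj_class {x : C0} {k : ℕ} (h : HasClass x k) :
    IsConj (e.θ x) e.t ↔ IsConj (e.θ (repEl k)) e.t := by
  obtain ⟨c, rfl⟩ := h
  have h1 : IsConj (e.θ (repEl k)) (e.θ (c * repEl k * c⁻¹)) :=
    isConj_iff.2 ⟨e.θ c, by rw [map_mul, map_mul, map_inv]⟩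
  exact ⟨fun h => h1.trans h, fun h => h1.symm.trans h⟩

theorem isConj_eEl {r : ℕ} (hr : HasPat e.θ r) (i : Fin 2) {v : ℕ} (hv : v < 64) :
    IsConj (e.θ (eEl i v)) e.t ↔ inO r i v = true := by
  rw [isConj_class hC (hC.lab i v hv), inO, hr _ (labE_lt i hv)]

theorem eEl_mem (i : Fin 2) {v : ℕ} (hv : v < 64) : e.θ (eEl i v) ∈ e.E i :=
  mem_map_of_mem _ ((hC.mem_Eg i _).2 ⟨v, hv, rfl⟩)

theorem exists_eEl {i : Fin 2} {x : G} (hx : x ∈ e.E i) : ∃ v < 64, e.θ (eEl i v) = x := by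
  obtain ⟨a, ha, rfl⟩ := hx
  obtain ⟨v, hv, rfl⟩ := (hC.mem_Eg i a).1 ha
  exact ⟨v, hv, rfl⟩

theorem eEl_inj {i : Fin 2} {v w : ℕ} (hv : v < 64) (hw : w < 64)
    (h : e.θ (eEl i v) = e.θ (eEl i w)) : v = w :=
  hC.eEl_inj i v hv w hw (e.injective h)

theorem linesO_eq [Finite G] {r : ℕ} (hr : HasPat e.θ r) (i : Fin 2) {v : ℕ} (hv : v < 64)
    (h : inO r i v = true) : linesO r i v = linesO r i (zIdx i) := by
  obtain ⟨n, hn, hnx⟩ := exists_norm hC (eEl_mem (e := e) hC i hv) ((isConj_eEl hC hr i hv).2 h)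
  have hex : ∀ y < 64, ∃ w < 64, e.θ (eEl i w) = n * e.θ (eEl i y) * n⁻¹ := fun y hy =>
    exists_eEl hC ((mem_normalizer_iff.1 hn _).1 (eEl_mem (e := e) hC i hy))
  choose! f hf hfe using hex
  have hfO : ∀ y < 64, inO r i (f y) = inO r i y := fun y hy => by
    have h1 : IsConj (e.θ (eEl i y)) (e.θ (eEl i (f y))) := isConj_iff.2 ⟨n, (hfe y hy).symm⟩
    rw [Bool.eq_iff_iff, ← isConj_eEl (e := e) hC hr i (hf y hy), ← isConj_eEl (e := e) hC hr i hy]
    exact ⟨fun a => h1.trans a, fun a => h1.symm.trans a⟩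
  have hxor : ∀ y < 64, f (v ^^^ y) = zIdx i ^^^ f y := fun y hy => by
    refine eEl_inj (e := e) (i := i) hC (hf _ (Nat.xor_lt_two_pow (n := 6) hv hy))
      (Nat.xor_lt_two_pow (n := 6) (zIdx_lt i) (hf y hy)) ?_
    rw [hfe _ (Nat.xor_lt_two_pow (n := 6) hv hy), ← hC.eEl_mul i v hv y hy,
      ← hC.eEl_mul i _ (zIdx_lt i) _ (hf y hy), map_mul, map_mul, hfe y hy, hC.eEl_z,
      show e.θ z0 = n * e.θ (eEl i v) * n⁻¹ from hnx.symm]
    group
  have hinj : ∀ a < 64, ∀ b < 64, f a = f b → a = b := fun a ha b hb hab => by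
    refine eEl_inj (e := e) (i := i) hC ha hb ?_
    have h1 := hfe a ha
    rw [hab, hfe b hb] at h1
    exact (mul_left_cancel (mul_right_cancel h1)).symm
  have key : ∀ w, linesO r i w =
      ((Finset.range 64).filter fun y => (inO r i y && inO r i (w ^^^ y)) = true).card := fun w => by
    rw [linesO, ← List.toFinset_card_of_nodup ((List.nodup_range).filter _)]
    congr 1
    ext y
    simp
  rw [key, key]
  refine Finset.card_nbij f (fun y hy => ?_) (fun a ha b hb => ?_) (fun w hw => ?_)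
  · simp only [Finset.coe_filter, Set.mem_ofPred_eq, Finset.mem_range] at hy ⊢
    refine ⟨hf y hy.1, ?_⟩
    rw [hfO y hy.1, ← hxor y hy.1, hfO _ (Nat.xor_lt_two_pow (n := 6) hv hy.1)]
    exact hy.2
  · simp only [Finset.coe_filter, Set.mem_ofPred_eq, Finset.mem_range] at ha hb
    exact hinj a ha.1 b hb.1
  · simp only [Finset.coe_filter, Set.mem_ofPred_eq, Finset.mem_range] at hw
    obtain ⟨a, ha, hae⟩ : ∃ a < 64, f a = w := by
      have hsurj := Finset.surjOn_of_injOn_of_card_le (s := Finset.range 64) (t := Finset.range 64) f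
        (fun a ha => Finset.mem_coe.2 (Finset.mem_range.2 (hf a (Finset.mem_range.1 ha))))
        (fun a ha b hb => hinj a (Finset.mem_range.1 ha) b (Finset.mem_range.1 hb)) le_rfl
      obtain ⟨a, ha, hae⟩ := hsurj (Finset.mem_coe.2 (Finset.mem_range.2 hw.1))
      exact ⟨a, Finset.mem_range.1 ha, hae⟩
    refine ⟨a, ?_, hae⟩
    simp only [Finset.coe_filter, Set.mem_ofPred_eq, Finset.mem_range]
    refine ⟨ha, ?_⟩
    subst hae
    rw [← hfO a ha, ← hfO _ (Nat.xor_lt_two_pow (n := 6) hv ha), hxor a ha]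
    exact hw.2

theorem normalizer_inf_range (i : Fin 2) :
    normalizer (e.E i : Set G) ⊓ e.θ.range = (normalizer (Eg i : Set C0)).map e.θ := by
  refine le_antisymm ?_ (le_inf (le_normalizer_map _) (map_le_range _ _))
  rintro _ ⟨hn, c, rfl⟩
  refine mem_map_of_mem _ (mem_normalizer_iff.2 fun w => ?_)
  rw [← mem_map_iff_mem e.injective (K := Eg i), ← mem_map_iff_mem e.injective (K := Eg i) (x := c * w * c⁻¹),
    map_mul, map_mul, map_inv]
  exact mem_normalizer_iff.1 hn (e.θ w)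

theorem sizeI_dvd [Finite G] {r : ℕ} (hr : HasPat e.θ r) : sizeI r ∣ sizeO r 0 * 3072 := by
  classical
  let φ : G →* ConjAct G := (ConjAct.toConjAct (G := G)).toMonoidHom
  let N0 := normalizer (e.E 0 : Set G)
  let M := N0 ⊓ normalizer (e.E 1 : Set G)
  let W : Finset ℕ := (Finset.range 64).filter fun v => (inO r 0 v && (v &&& 9 == 0)) = true
  let O : Finset ℕ := (Finset.range 64).filter fun v => inO r 0 v = true
  have hW : sizeI r = W.card := by
    rw [sizeI, ← List.toFinset_card_of_nodup ((List.nodup_range).filter _)]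
    congr 1
    ext y
    simp [W]
  have hO : sizeO r 0 = O.card := by
    rw [sizeO, ← List.toFinset_card_of_nodup ((List.nodup_range).filter _)]
    congr 1
    ext y
    simp [O]
  have himg : ∀ T : Finset ℕ, (∀ v ∈ T, v < 64) →
      ((fun v => e.θ (eEl 0 v)) '' (T : Set ℕ)).ncard = T.card := fun T hT => by
    rw [Set.InjOn.ncard_image (fun a ha b hb => eEl_inj hC (hT a ha) (hT b hb)), Set.ncard_coe_finset]
  have horb : ∀ (H : Subgroup G) (T : Finset ℕ), (∀ v ∈ T, v < 64) →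
      (∀ n ∈ H, ∃ v ∈ T, e.θ (eEl 0 v) = n * e.t * n⁻¹) →
      (∀ v ∈ T, ∃ n ∈ H, n * e.t * n⁻¹ = e.θ (eEl 0 v)) →
      Nat.card H = T.card * Nat.card (H ⊓ e.θ.range : Subgroup G) := by
    intro H T hT h1 h2
    have hset : MulAction.orbit (H.map φ) e.t = (fun v => e.θ (eEl 0 v)) '' (T : Set ℕ) := by
      ext x
      constructor
      · rintro ⟨⟨_, n, hn, rfl⟩, rfl⟩
        obtain ⟨v, hv, hve⟩ := h1 n hn
        exact ⟨v, hv, hve.trans (ConjAct.smul_def _ _).symm⟩
      · rintro ⟨v, hv, rfl⟩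
        obtain ⟨n, hn, hne⟩ := h2 v hv
        exact ⟨⟨_, mem_map_of_mem φ hn⟩, (ConjAct.smul_def _ _).trans hne⟩
    have h3 := MulAction.index_stabilizer (H.map φ) e.t
    rw [hset, himg T hT] at h3
    have h4 := Subgroup.card_mul_index (MulAction.stabilizer (H.map φ) e.t)
    rw [h3] at h4
    have hφ : Function.Injective φ := (ConjAct.toConjAct (G := G)).injective
    have e1 : Nat.card (H.map φ) = Nat.card H :=
      Nat.card_congr (H.equivMapOfInjective φ hφ).toEquiv.symm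
    have e2 : Nat.card (MulAction.stabilizer (H.map φ) e.t) = Nat.card (H ⊓ e.θ.range : Subgroup G) := by
      refine (Nat.card_eq_of_bijective (fun n : (H ⊓ e.θ.range : Subgroup G) =>
        (⟨⟨φ n, mem_map_of_mem φ n.2.1⟩, ?_⟩ : MulAction.stabilizer (H.map φ) e.t))
        ⟨fun a b h => Subtype.ext (hφ (show φ a = φ b from
          congrArg (fun x : MulAction.stabilizer (H.map φ) e.t => ((x : H.map φ) : ConjAct G)) h)), ?_⟩).symm
      · show φ n • e.t = e.t
        rw [ConjAct.smul_def]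
        show (n : G) * e.t * (n : G)⁻¹ = e.t
        rw [e.mem_range.1 n.2.2]
        group
      · rintro ⟨⟨_, m, hm, rfl⟩, hs⟩
        refine ⟨⟨m, hm, e.mem_range.2 ?_⟩, rfl⟩
        have hs' : φ m • e.t = e.t := hs
        rw [ConjAct.smul_def] at hs'
        exact mul_inv_eq_iff_eq_mul.1 hs'
    rw [e1, e2, mul_comm] at h4
    exact h4.symm
  have hcard0 : Nat.card N0 = O.card * 3072 := by
    rw [horb N0 O (fun v hv => Finset.mem_range.1 (Finset.mem_filter.1 hv).1) ?_ ?_, normalizer_inf_range hC,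
      ← Nat.card_congr ((normalizer (Eg 0 : Set C0)).equivMapOfInjective _ e.injective).toEquiv,
      hC.card_norm_Eg]
    · intro n hn
      obtain ⟨v, hv, hve⟩ := exists_eEl hC ((mem_normalizer_iff.1 hn _).1 (z_mem_E (e := e) hC 0))
      refine ⟨v, Finset.mem_filter.2 ⟨Finset.mem_range.2 hv, ?_⟩, hve⟩
      rw [← isConj_eEl (e := e) hC hr 0 hv, hve]
      exact (isConj_iff.2 ⟨n, rfl⟩ : IsConj e.t _).symm
    · intro v hv
      obtain ⟨hv64, hvO⟩ := Finset.mem_filter.1 hv
      obtain ⟨n, hn, hne⟩ := exists_norm hC (eEl_mem (e := e) hC 0 (Finset.mem_range.1 hv64))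
        ((isConj_eEl hC hr 0 (Finset.mem_range.1 hv64)).2 hvO)
      exact ⟨n⁻¹, inv_mem hn, by rw [← hne]; group⟩
  have hcardM : Nat.card M = W.card * Nat.card (M ⊓ e.θ.range : Subgroup G) := by
    refine horb M W (fun v hv => Finset.mem_range.1 (Finset.mem_filter.1 hv).1) ?_ ?_
    · intro n hn
      obtain ⟨v, hv, hve⟩ := exists_eEl hC ((mem_normalizer_iff.1 hn.1 _).1 (z_mem_E (e := e) hC 0))
      obtain ⟨w, hw, hwe⟩ := exists_eEl hC ((mem_normalizer_iff.1 hn.2 _).1 (z_mem_E (e := e) hC 1))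
      refine ⟨v, Finset.mem_filter.2 ⟨Finset.mem_range.2 hv, ?_⟩, hve⟩
      rw [Bool.and_eq_true, beq_iff_eq]
      refine ⟨?_, (exists_second hv).2 ⟨w, hw, e.injective (hve.trans hwe.symm)⟩⟩
      rw [← isConj_eEl (e := e) hC hr 0 hv, hve]
      exact (isConj_iff.2 ⟨n, rfl⟩ : IsConj e.t _).symm
    · intro v hv
      obtain ⟨hv64, hvW⟩ := Finset.mem_filter.1 hv
      rw [Bool.and_eq_true, beq_iff_eq] at hvW
      have hv' := Finset.mem_range.1 hv64
      obtain ⟨w, hw, hwe⟩ := (exists_second hv').1 hvW.2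
      obtain ⟨m, hm, hme⟩ := exists_norm_both hC (eEl_mem (e := e) hC 0 hv')
        (hwe ▸ eEl_mem (e := e) hC 1 hw) ((isConj_eEl hC hr 0 hv').2 hvW.1)
      exact ⟨m⁻¹, inv_mem hm, by rw [← hme]; group⟩
  have hd : Nat.card M ∣ Nat.card N0 := card_dvd_of_le inf_le_left
  rw [hW, hO, ← hcard0]
  exact (Dvd.intro _ hcardM.symm).trans hd

end CentEmb

open CentEmb in
/-- The six fusion patterns with a fused conjugate in the centraliser. -/
theorem pattern_cases (hC : CentFacts) {G : Type u} [Group G] [Finite G] (e : CentEmb G)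
    (hne : ∃ g : G, g * e.t * g⁻¹ ≠ e.t ∧ g * e.t * g⁻¹ * e.t = e.t * (g * e.t * g⁻¹)) :
    ∃ r ∈ [rP, rQ, rL, rA, rB, rH], HasPat e.θ r := by
  obtain ⟨r, hr, hbit⟩ := exists_mask (fun k => IsConj (e.θ (repEl k)) e.t) 9
  have hpat : HasPat e.θ r := hbit
  obtain ⟨g, hg, hgc⟩ := hne
  obtain ⟨x, hx⟩ := e.exists_of_comm hgc
  have hx2 : x * x = 1 := e.injective (by
    rw [map_mul, map_one, hx]
    calc g * e.t * g⁻¹ * (g * e.t * g⁻¹) = g * (e.t * e.t) * g⁻¹ := by group
      _ = 1 := by rw [t_sq hC, mul_one, mul_inv_cancel])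
  obtain ⟨k, hk, hxk⟩ := hC.classes x hx2
  have hkr : r.testBit k = true :=
    (hbit k hk).2 ((isConj_class hC hxk).1 (hx ▸ (isConj_iff.2 ⟨g, rfl⟩ : IsConj e.t _).symm))
  have hk2 : k ≠ 2 := by
    rintro rfl
    obtain ⟨c, rfl⟩ := hxk
    rw [hC.repEl_two, ← hC.z0_comm, mul_inv_cancel_right] at hx
    exact hg hx.symm
  have h0 : r.testBit 0 = false := by
    by_contra h
    have h1 := (hbit 0 (by norm_num)).1 (by simpa using h)
    rw [hC.repEl_zero, map_one, isConj_one_right] at h1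
    exact hC.z0_ne (e.injective (h1.trans (map_one _).symm))
  have h2 : r.testBit 2 = true := (hbit 2 (by norm_num)).2 (by rw [hC.repEl_two])
  have hgood : goodPat r = true := by
    simp only [goodPat, h0, h2, Bool.not_false, Bool.true_and, Bool.and_eq_true, List.all_eq_true,
      List.mem_range, Bool.or_eq_true, Bool.not_eq_true', beq_iff_eq]
    refine ⟨⟨fun v hv => ?_, fun v hv => ?_⟩, Nat.mod_eq_zero_of_dvd (sizeI_dvd hC hpat)⟩
    · rcases hb : inO r 0 v with _ | _
      · exact Or.inl rfl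
      · exact Or.inr (linesO_eq hC hpat 0 hv hb)
    · rcases hb : inO r 1 v with _ | _
      · exact Or.inl rfl
      · exact Or.inr (linesO_eq hC hpat 1 hv hb)
  have hmem := goodPat_cases hr hgood
  simp only [List.mem_cons, List.not_mem_nil, or_false] at hmem
  refine ⟨r, ?_, hpat⟩
  simp only [List.mem_cons, List.not_mem_nil, or_false]
  rcases hmem with h | h | h | h | h | h | h <;> try tauto
  subst h
  exfalso
  rw [show (4 : ℕ) = 2 ^ 2 by norm_num, Nat.testBit_two_pow] at hkr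
  simp only [decide_eq_true_eq] at hkr
  exact hk2 hkr.symm

end CfsgLib.HeUnique
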